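import Cfsg.Agent.H712.XZ.OwnLie
import Mathlib

/-!
# S4791 + S4927, own characteristic, exceptional groups: counting (helper143)

* `core1`, `core2` : characteristic polynomials of the matrices `diag(c ^ E v)`;
* `tcls_of` : enough classes of torus elements over the prime field.
-/

set_option autoImplicit false

open Matrix Finset

namespace Cfsg.Agent.H143.Own

section Dia

variable {ι : Type*} [Fintype ι] [DecidableEq ι] {K : Type*} [Field K]

theorem map_eq_of_charpoly {d e : ι → K}
    (h : (Matrix.diagonal d : Matrix ι ι K).charpoly = (Matrix.diagonal e).charpoly) :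
    Finset.univ.val.map d = Finset.univ.val.map e := by
  rw [Matrix.charpoly_diagonal, Matrix.charpoly_diagonal] at h
  have h3 : ∀ f : ι → K, (∏ i, (Polynomial.X - Polynomial.C (f i))).roots = Finset.univ.val.map f := by
    intro f
    have h4 := Polynomial.roots_multiset_prod_X_sub_C (Finset.univ.val.map f)
    rw [Multiset.map_map] at h4
    exact h4
  rw [← h3 d, ← h3 e, h]

theorem card_eq_of_charpoly [DecidableEq K] {d e : ι → K}
    (h : (Matrix.diagonal d : Matrix ι ι K).charpoly = (Matrix.diagonal e).charpoly) (a : K) :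
    #{v | d v = a} = #{v | e v = a} := by
  have h1 := congrArg (Multiset.count a) (map_eq_of_charpoly h)
  rw [Multiset.count_map, Multiset.count_map] at h1
  have h2 : ∀ f : ι → K, #{v | f v = a} = Multiset.card (Multiset.filter (fun v => a = f v) Finset.univ.val) := by
    intro f
    show Multiset.card (Multiset.filter (fun v => f v = a) Finset.univ.val) = _
    congr 1
    apply Multiset.filter_congr
    intro x _
    exact eq_comm
  rw [h2, h2, h1]

theorem core1 {E : ι → ℤ} (h1 : 2 < #{v | E v = 1}) (h2 : #{v | E v = 2 ∨ E v = -2} ≤ 2)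
    (h3 : ∀ v, E v = 0 ∨ E v = 1 ∨ E v = -1 ∨ E v = 2 ∨ E v = -2) {c d : K} (hc : c ≠ 0) (hd : d ≠ 0)
    (h : (Matrix.diagonal fun v => c ^ E v : Matrix ι ι K).charpoly = (Matrix.diagonal fun v => d ^ E v).charpoly) :
    d = c ∨ d = c⁻¹ := by
  classical
  have key : ∀ {c d : K}, c ≠ 0 → d ≠ 0 → c ≠ 1 →
      (Matrix.diagonal fun v => c ^ E v : Matrix ι ι K).charpoly = (Matrix.diagonal fun v => d ^ E v).charpoly →
      d = c ∨ d = c⁻¹ := by
    intro c d hc hd hc1 h
    by_contra hcon
    push Not at hcon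
    have e1 := card_eq_of_charpoly h c
    have a1 : #{v | E v = 1} ≤ #{v | c ^ E v = c} := by
      apply Finset.card_le_card
      intro v hv
      rw [Finset.mem_filter] at hv ⊢
      exact ⟨hv.1, by rw [hv.2, zpow_one]⟩
    have a2 : #{v | d ^ E v = c} ≤ #{v | E v = 2 ∨ E v = -2} := by
      apply Finset.card_le_card
      intro v hv
      rw [Finset.mem_filter] at hv ⊢
      refine ⟨hv.1, ?_⟩
      have h4 := hv.2
      rcases h3 v with h5 | h5 | h5 | h5
      · rw [h5, zpow_zero] at h4
        exact absurd h4.symm hc1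
      · rw [h5, zpow_one] at h4
        exact absurd h4 hcon.1
      · rw [h5, _root_.zpow_neg_one] at h4
        exact absurd (by rw [← h4, inv_inv]) hcon.2
      · exact h5
    omega
  by_cases hc1 : c = 1
  · by_cases hd1 : d = 1
    · left; rw [hc1, hd1]
    · rcases key hd hc hd1 h.symm with h5 | h5
      · exact Or.inl h5.symm
      · right; rw [h5, inv_inv]
  · exact key hc hd hc1 h

theorem core2 {E E2 : ι → ℤ} (h4 : #{v | (10 : ℤ) ∣ E2 v} < #{v | E v = 0}) {c g : K}
    (hg : ∀ k : ℤ, g ^ k = 1 → (10 : ℤ) ∣ k) :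
    (Matrix.diagonal fun v => c ^ E v : Matrix ι ι K).charpoly ≠ (Matrix.diagonal fun v => g ^ E2 v).charpoly := by
  classical
  intro h
  have e1 := card_eq_of_charpoly h 1
  have a1 : #{v | E v = 0} ≤ #{v | c ^ E v = 1} := by
    apply Finset.card_le_card
    intro v hv
    rw [Finset.mem_filter] at hv ⊢
    exact ⟨hv.1, by rw [hv.2, zpow_zero]⟩
  have a2 : #{v | g ^ E2 v = 1} ≤ #{v | (10 : ℤ) ∣ E2 v} := by
    apply Finset.card_le_card
    intro v hv
    rw [Finset.mem_filter] at hv ⊢
    exact ⟨hv.1, hg _ hv.2⟩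
  omega

end Dia

/-- an element of order prime to `p` normalizing a Sylow `p`-subgroup -/
def Good (p : ℕ) {S : Type*} [Group S] (x : S) : Prop :=
  ¬ p ∣ orderOf x ∧ ∃ Q : Sylow p S, ∀ u ∈ (Q : Subgroup S), x * u * x⁻¹ ∈ (Q : Subgroup S)

theorem tcls_of {S : Type*} [Group S] {p : ℕ} [hp : Fact p.Prime] (h11 : 11 ≤ p) (x : (ZMod p)ˣ → S) (y : S)
    (hx : ∀ c, Good p (x c)) (hy : p = 11 → Good p y)
    (haut1 : ∀ (σ : S ≃* S) (c d : (ZMod p)ˣ), σ (x c) = x d → d = c ∨ d = c⁻¹)
    (haut2 : p = 11 → ∀ (σ : S ≃* S) (c : (ZMod p)ˣ), σ (x c) ≠ y) :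
    ∃ m, 4 * (p - 1) < m ^ 2 ∧ H712.XZ.TCls p m S := by
  obtain ⟨g, hg⟩ := IsCyclic.exists_generator (α := (ZMod p)ˣ)
  have ho : orderOf g = p - 1 := by
    rw [orderOf_eq_card_of_forall_mem_zpowers hg, Nat.card_eq_fintype_card, ZMod.card_units_eq_totient,
      Nat.totient_prime hp.out]
  have hodd : p % 2 = 1 := hp.out.eq_two_or_odd.resolve_left (by omega)
  have key : ∀ (σ : S ≃* S) (i j : ℕ), i < (p + 1) / 2 → j < (p + 1) / 2 → σ (x (g ^ i)) = x (g ^ j) → i = j := by
    intro σ i j hi hj h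
    rcases haut1 σ _ _ h with h1 | h1
    · have h2 := pow_injOn_Iio_orderOf (x := g) (by rw [Set.mem_Iio, ho]; omega) (by rw [Set.mem_Iio, ho]; omega) h1
      exact h2.symm
    · have h2 : g ^ (i + j) = 1 := by
        rw [pow_add, h1, mul_inv_cancel]
      have h3 := orderOf_dvd_of_pow_eq_one h2
      rw [ho] at h3
      obtain ⟨k, hk⟩ := h3
      rcases Nat.eq_zero_or_pos k with h4 | h4
      · subst h4
        omega
      · have h5 : p - 1 ≤ i + j := by
          rw [hk]
          exact Nat.le_mul_of_pos_right _ h4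
        omega
  by_cases hp11 : p = 11
  · refine ⟨7, by rw [hp11]; norm_num, fun i => if i.val < 6 then x (g ^ i.val) else y, fun i => ?_, fun i => ?_,
      fun i j σ h => ?_⟩
    · show ¬ p ∣ orderOf (if i.val < 6 then x (g ^ i.val) else y)
      split_ifs
      · exact (hx _).1
      · exact (hy hp11).1
    · show ∃ Q : Sylow p S, ∀ u ∈ (Q : Subgroup S), (if i.val < 6 then x (g ^ i.val) else y) * u *
        (if i.val < 6 then x (g ^ i.val) else y)⁻¹ ∈ (Q : Subgroup S)
      split_ifs
      · exact (hx _).2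
      · exact (hy hp11).2
    · have h' : σ (if i.val < 6 then x (g ^ i.val) else y) = (if j.val < 6 then x (g ^ j.val) else y) := h
      clear h
      apply Fin.ext
      split_ifs at h' with h1 h2 h2
      · exact key σ _ _ (by omega) (by omega) h'
      · exact absurd h' (haut2 hp11 σ _)
      · refine absurd ?_ (haut2 hp11 σ.symm (g ^ j.val))
        rw [← h', MulEquiv.symm_apply_apply]
      · omega
  · have hp13 : 13 ≤ p := by
      have : p ≠ 12 := fun h => by rw [h] at hodd; omega
      omega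
    refine ⟨(p + 1) / 2, ?_, fun i => x (g ^ i.val), fun i => (hx _).1, fun i => (hx _).2,
      fun i j σ h => Fin.ext (key σ _ _ i.2 j.2 h)⟩
    obtain ⟨k, hk⟩ : ∃ k, p = 2 * k + 1 := ⟨p / 2, by omega⟩
    have h1 : (p + 1) / 2 = k + 1 := by omega
    rw [h1, hk]
    have hk6 : 6 ≤ k := by omega
    have : 4 * (2 * k + 1 - 1) = 8 * k := by omega
    rw [this]
    nlinarith

end Cfsg.Agent.H143.Own
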