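import Cfsg.Agent.H143.Own.Abs
import Cfsg.Agent.ChevalleyStructure.HMatDiagAll

/-!
# S4791 + S4927, own characteristic, exceptional groups: subgroups of `GL(D.Idx, K)` (helper143)

* `chk` : the check of the exponents;
* `tcls_gen` : enough classes from torus elements `diag(c ^ e)`, `c` in the prime field.
-/

set_option autoImplicit false

open Matrix Finset

namespace Cfsg.Agent.H143.Own

open Cfsg Cfsg.Lie Cfsg.Lie.ChevalleyDatum Cfsg.Agent.ChevalleyStructure

/-- the number of `u < n` with `f u` -/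
def cnt (f : ℕ → Bool) : ℕ → ℕ
  | 0 => 0
  | n + 1 => bif f n then cnt f n + 1 else cnt f n

theorem card_fin (f : ℕ → Bool) (n : ℕ) : #{s : Fin n | f s.val = true} = cnt f n := by
  rw [Finset.card_filter]
  have h1 : ∑ i : Fin n, (if f i.val = true then 1 else 0) = ∑ i ∈ Finset.range n, if f i = true then 1 else 0 :=
    Fin.sum_univ_eq_sum_range (fun i => if f i = true then 1 else 0) n
  rw [h1]
  induction n with
  | zero => rfl
  | succ n ih =>
    rw [Finset.sum_range_succ, ih, cnt]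
    · cases f n <;> simp
    · exact Fin.sum_univ_eq_sum_range (fun i => if f i = true then 1 else 0) n

/-- exponents on all coordinates -/
def ext (D : ChevalleyDatum) (e : ℕ → ℤ) : D.Idx → ℤ := Sum.elim (fun _ => 0) (fun u => e u.val)

theorem card_ext (D : ChevalleyDatum) (e : ℕ → ℤ) (P : ℤ → Bool) :
    #{v : D.Idx | P (ext D e v) = true} = (bif P 0 then D.rank else 0) + cnt (fun u => P (e u)) D.nroots := by
  rw [← card_fin, Finset.card_filter, Finset.card_filter]
  have h1 : ∑ v : D.Idx, (if P (ext D e v) = true then 1 else 0) =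
      ∑ _i : Fin D.rank, (if P 0 = true then 1 else 0) +
        ∑ u : Fin D.nroots, (if P (e u.val) = true then 1 else 0) := Fintype.sum_sum_type _
  rw [h1]
  congr 1
  cases P 0 <;> simp

/-- the check -/
def chk (D : ChevalleyDatum) (e1 e2 : ℕ → ℤ) : Bool :=
  Nat.blt 2 (cnt (fun u => decide (e1 u = 1)) D.nroots) &&
  Nat.ble (cnt (fun u => decide (e1 u = 2 ∨ e1 u = -2)) D.nroots) 2 &&
  (List.range D.nroots).all (fun u => decide (e1 u = 0 ∨ e1 u = 1 ∨ e1 u = -1 ∨ e1 u = 2 ∨ e1 u = -2)) &&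
  Nat.blt (cnt (fun u => decide ((10 : ℤ) ∣ e2 u)) D.nroots) (cnt (fun u => decide (e1 u = 0)) D.nroots)

/-- the diagonal matrix -/
def dm (D : ChevalleyDatum) {K : Type*} [Field K] (e : ℕ → ℤ) (c : K) : Matrix D.Idx D.Idx K :=
  Matrix.diagonal (Sum.elim (fun _ => (1 : K)) (fun u : Fin D.nroots => c ^ e u.val))

theorem dm_eq (D : ChevalleyDatum) {K : Type*} [Field K] (e : ℕ → ℤ) (c : K) :
    dm D e c = Matrix.diagonal fun v => c ^ ext D e v := by
  unfold dm
  congr 1
  funext v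
  rcases v with v | v
  · show (1 : K) = c ^ (0 : ℤ)
    rw [zpow_zero]
  · rfl

section

variable {D : ChevalleyDatum} {K : Type*} [Field K] {p : ℕ} [hp : Fact p.Prime] [CharP K p]

/-- the units of the prime field -/
def kk (K : Type*) [Field K] {p : ℕ} [CharP K p] (c : (ZMod p)ˣ) : K := ZMod.castHom (dvd_refl p) K (c : ZMod p)

theorem kk_ne_zero (c : (ZMod p)ˣ) : kk K c ≠ 0 := (c.isUnit.map (ZMod.castHom (dvd_refl p) K)).ne_zero

theorem kk_pow (c : (ZMod p)ˣ) (n : ℕ) : kk K c ^ n = kk K (c ^ n) := by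
  unfold kk
  rw [← map_pow, Units.val_pow_eq_pow_val]

theorem kk_one : kk K (1 : (ZMod p)ˣ) = 1 := by
  unfold kk
  rw [Units.val_one, map_one]

theorem kk_inv (c : (ZMod p)ˣ) : kk K c⁻¹ = (kk K c)⁻¹ := by
  refine eq_inv_of_mul_eq_one_left ?_
  unfold kk
  rw [← map_mul, ← Units.val_mul, inv_mul_cancel, Units.val_one, map_one]

theorem kk_injective : Function.Injective (kk K : (ZMod p)ˣ → K) := fun _ _ h =>
  Units.ext ((ZMod.castHom (dvd_refl p) K).injective h)

theorem kk_zpow (c : (ZMod p)ˣ) (n : ℤ) : kk K c ^ n = kk K (c ^ n) := by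
  cases n with
  | ofNat n => rw [Int.ofNat_eq_natCast, zpow_natCast, zpow_natCast, kk_pow]
  | negSucc n => rw [zpow_negSucc, zpow_negSucc, kk_inv, kk_pow]

theorem kk_fermat (c : (ZMod p)ˣ) : kk K c ^ (p - 1) = 1 := by
  rw [kk_pow, ZMod.units_pow_card_sub_one_eq_one, kk_one]

/-- entries in the prime field -/
def Rat (p : ℕ) [CharP K p] (A : Matrix D.Idx D.Idx K) : Prop :=
  ∀ i j, ∃ a : ZMod p, A i j = ZMod.castHom (dvd_refl p) K a

theorem rat_dm (e : ℕ → ℤ) (c : (ZMod p)ˣ) : Rat p (dm D e (kk K c)) := by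
  intro i j
  unfold dm
  by_cases h : i = j
  · subst h
    rw [Matrix.diagonal_apply_eq]
    rcases i with i | i
    · exact ⟨1, by rw [map_one]; rfl⟩
    · exact ⟨_, kk_zpow c _⟩
  · rw [Matrix.diagonal_apply_ne _ h]
    exact ⟨0, by rw [map_zero]⟩

omit hp in
theorem Rat.map_eq {A : Matrix D.Idx D.Idx K} (hA : Rat p A) (τ : K ≃+* K) : A.map τ = A := by
  ext i j
  rw [Matrix.map_apply]
  obtain ⟨a, ha⟩ := hA i j
  rw [ha]
  exact congrFun (congrArg DFunLike.coe (Subsingleton.elim ((τ : K →+* K).comp (ZMod.castHom (dvd_refl p) K))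
    (ZMod.castHom (dvd_refl p) K))) a

theorem tcls_gen (h11 : 11 ≤ p) (G : Subgroup (GL D.Idx K)) (e1 e2 : ℕ → ℤ) (hchk : chk D e1 e2 = true)
    (h1 : ∀ c : (ZMod p)ˣ, ∃ z : G, (z : GL D.Idx K) ∈ D.diagonalSubgroup K ∧
      ((z : GL D.Idx K) : Matrix D.Idx D.Idx K) = dm D e1 (kk K c))
    (h2 : ∀ c : (ZMod p)ˣ, ∃ z : G, (z : GL D.Idx K) ∈ D.diagonalSubgroup K ∧
      ((z : GL D.Idx K) : Matrix D.Idx D.Idx K) = dm D e2 (kk K c))
    (hnor : ∀ t : G, (t : GL D.Idx K) ∈ D.diagonalSubgroup K →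
      ∃ Q : Sylow p G, ∀ u ∈ (Q : Subgroup G), t * u * t⁻¹ ∈ (Q : Subgroup G))
    (haut : ∀ (σ : G ≃* G) (z : G), Rat p ((z : GL D.Idx K) : Matrix D.Idx D.Idx K) →
      ((σ z : GL D.Idx K) : Matrix D.Idx D.Idx K).charpoly = ((z : GL D.Idx K) : Matrix D.Idx D.Idx K).charpoly) :
    ∃ m, 4 * (p - 1) < m ^ 2 ∧ H712.XZ.TCls p m G := by
  classical
  unfold chk at hchk
  simp only [Bool.and_eq_true, List.all_eq_true, List.mem_range, decide_eq_true_eq] at hchk
  obtain ⟨⟨⟨c1, c2⟩, c3⟩, c4⟩ := hchk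
  have c1' := Nat.lt_of_lt_of_le (Nat.lt_succ_self 2) (Nat.le_of_ble_eq_true c1)
  have c2' := Nat.le_of_ble_eq_true c2
  have c4' := Nat.le_of_ble_eq_true c4
  have k1 : 2 < #{v | ext D e1 v = 1} := by
    have h3 := card_ext D e1 (fun x => decide (x = 1))
    simp only [decide_eq_true_eq] at h3
    rw [h3]
    exact lt_of_lt_of_le c1' (Nat.le_add_left _ _)
  have k2 : #{v | ext D e1 v = 2 ∨ ext D e1 v = -2} ≤ 2 := by
    have h3 := card_ext D e1 (fun x => decide (x = 2 ∨ x = -2))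
    simp only [decide_eq_true_eq] at h3
    rw [h3]
    have h4 : (bif decide ((0 : ℤ) = 2 ∨ (0 : ℤ) = -2) then D.rank else 0) = 0 := rfl
    rw [h4, Nat.zero_add]
    exact c2'
  have k3 : ∀ v, ext D e1 v = 0 ∨ ext D e1 v = 1 ∨ ext D e1 v = -1 ∨ ext D e1 v = 2 ∨ ext D e1 v = -2 := by
    intro v
    rcases v with v | v
    · exact Or.inl rfl
    · exact c3 v.val v.2
  have k4 : #{v | (10 : ℤ) ∣ ext D e2 v} < #{v | ext D e1 v = 0} := by
    have h3 := card_ext D e2 (fun x => decide ((10 : ℤ) ∣ x))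
    have h4 := card_ext D e1 (fun x => decide (x = 0))
    simp only [decide_eq_true_eq] at h3 h4
    rw [h3, h4]
    have h5 : (bif decide ((10 : ℤ) ∣ 0) then D.rank else 0) = D.rank := rfl
    have h6 : (bif decide True then D.rank else 0) = D.rank := by simp
    rw [h5, h6]
    exact Nat.add_lt_add_left c4' _
  choose x hxd hx using h1
  choose y hyd hy using h2
  have good : ∀ (e : ℕ → ℤ) (c : (ZMod p)ˣ) (z : G), (z : GL D.Idx K) ∈ D.diagonalSubgroup K →
      ((z : GL D.Idx K) : Matrix D.Idx D.Idx K) = dm D e (kk K c) → Good p z := by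
    intro e c z hzd hz
    refine ⟨fun hd => ?_, hnor z hzd⟩
    have h3 : z ^ (p - 1) = 1 := by
      apply Subtype.ext
      apply Units.ext
      rw [Subgroup.coe_pow, Units.val_pow_eq_pow_val, hz, dm_eq, Matrix.diagonal_pow]
      show Matrix.diagonal _ = (1 : Matrix D.Idx D.Idx K)
      rw [← Matrix.diagonal_one]
      congr 1
      funext v
      rw [Pi.pow_apply, ← zpow_natCast, ← _root_.zpow_mul, mul_comm, _root_.zpow_mul, zpow_natCast,
        kk_fermat, _root_.one_zpow]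
    have h4 := hd.trans (orderOf_dvd_of_pow_eq_one h3)
    have h5 := Nat.le_of_dvd (by omega) h4
    omega
  obtain ⟨g, hg⟩ := IsCyclic.exists_generator (α := (ZMod p)ˣ)
  have ho : orderOf g = p - 1 := by
    rw [orderOf_eq_card_of_forall_mem_zpowers hg, Nat.card_eq_fintype_card, ZMod.card_units_eq_totient,
      Nat.totient_prime hp.out]
  refine tcls_of h11 x (y g) (fun c => good e1 c (x c) (hxd c) (hx c)) (fun _ => good e2 g (y g) (hyd g) (hy g)) ?_ ?_
  · intro σ c d h
    have h3 := haut σ (x c) (by rw [hx]; exact rat_dm e1 c)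
    rw [h, hx, hx, dm_eq, dm_eq] at h3
    rcases core1 k1 k2 k3 (kk_ne_zero c) (kk_ne_zero d) h3.symm with h4 | h4
    · exact Or.inl (kk_injective h4)
    · right
      apply kk_injective (K := K)
      rw [h4, kk_inv]
  · intro hp11 σ c h
    have h3 := haut σ (x c) (by rw [hx]; exact rat_dm e1 c)
    rw [h, hx, hy, dm_eq, dm_eq] at h3
    refine core2 k4 (fun k hk => ?_) h3.symm
    rw [kk_zpow, ← kk_one (p := p)] at hk
    have h4 := kk_injective hk
    have h5 := orderOf_dvd_iff_zpow_eq_one.2 h4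
    rw [ho, hp11] at h5
    exact h5

end

end Cfsg.Agent.H143.Own
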