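import Cfsg.Agent.H143.Own.Gen

/-!
# S4791 + S4927, own characteristic, exceptional groups: the kernel checks (helper143)
-/

set_option autoImplicit false

namespace Cfsg.Agent.H143.Own

open Cfsg Cfsg.Lie Cfsg.Lie.ChevalleyDatum Cfsg.Agent.ChevalleyStructure Cfsg.Agent.ChevalleyStructure.HMatDiagAll

theorem chk_G2 : chk chevG2 (expo chevG2 (chevG2.simple 1))
    (fun u => expo chevG2 (chevG2.simple 1) u + 3 * expo chevG2 (chevG2.simple 0) u) = true := by decide +kernel

theorem chk_F4 : chk chevF4 (expo chevF4 (chevF4.simple 3))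
    (fun u => expo chevF4 (chevF4.simple 3) u + 3 * expo chevF4 (chevF4.simple 0) u) = true := by decide +kernel

theorem chk_E6 : chk chevE6 (expo chevE6 46) (fun u => expo chevE6 46 u + 3 * expo chevE6 39 u) = true := by
  decide +kernel

theorem chk_E7 : chk chevE7 (expo chevE7 (chevE7.simple 0))
    (fun u => expo chevE7 (chevE7.simple 0) u + 3 * expo chevE7 (chevE7.simple 1) u) = true := by decide +kernel

theorem chk_E8 : chk chevE8 (expo chevE8 (chevE8.simple 0))
    (fun u => expo chevE8 (chevE8.simple 0) u + 3 * expo chevE8 (chevE8.simple 1) u) = true := by decide +kernel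

theorem chk_D4 : chk chevD4 (expo chevD4 14)
    (fun u => expo chevD4 14 u + 3 * (expo chevD4 18 u + expo chevD4 13 u + expo chevD4 12 u)) = true := by
  decide +kernel

end Cfsg.Agent.H143.Own
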