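import Cfsg.Agent.H143.Own.Untw
import Cfsg.Agent.H321.Car.AutTw
import Cfsg.Agent.H28.T5TwFour

/-!
# S4791 + S4927, own characteristic: `²E₆(q)`, `³D₄(q)` (helper143)

* `tcls_tw` : `IsTwistedE6D4Char p S`, `p ≥ 11`.
-/

set_option autoImplicit false
set_option linter.unusedSectionVars false

namespace Cfsg.Agent.H143.Own

open Cfsg Cfsg.Lie Cfsg.Lie.ChevalleyDatum Cfsg.Agent.ChevalleyStructure Cfsg.Agent.ChevalleyStructure.Elts
  Cfsg.Agent.ChevalleyStructure.HMatDiagAll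
open Cfsg.Agent.GpExc.Field (glMap emb coe_emb coe_glMap)
open CoxeterSystem Cfsg.Agent.ChevalleyStructure.CoxeterGeom Cfsg.Agent.Tits.Roots Cfsg.Agent.Tits.Core
  Cfsg.Agent.Tits.RootComb Cfsg.Agent.Nodes.Comb Cfsg.Agent.Nodes.Reps Cfsg.Agent.Nodes.BNOf
  Cfsg.Agent.ChevalleyStructure.CoxeterGeomTypes

section General

theorem charpoly_of_map {ι K k : Type*} [Fintype ι] [DecidableEq ι] [Field K] [Field k] (f : K →+* k)
    {A B : Matrix ι ι K} (h : (A.map f).charpoly = (B.map f).charpoly) : A.charpoly = B.charpoly := by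
  have h1 : ∀ C : Matrix ι ι K, (C.map f).charpoly = C.charpoly.map f := fun C => Matrix.charpoly_map C f
  rw [h1, h1] at h
  exact Polynomial.map_injective f f.injective h

theorem exists_exp {K : Type*} [Field K] [Fintype K] {p q m : ℕ} [hp : Fact p.Prime] [CharP K p] (hm : m ≠ 0)
    (hK : Fintype.card K = q ^ m) : ∃ n, q = p ^ n := by
  obtain ⟨n, -, hn⟩ := FiniteField.card K p
  have h1 : q ∣ p ^ (n : ℕ) := by
    rw [← hn, hK]
    exact dvd_pow_self q hm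
  obtain ⟨k, -, hk⟩ := (Nat.dvd_prime_pow hp.out).1 h1
  exact ⟨k, hk⟩

variable {K : Type} [Field K] {p : ℕ} [hp : Fact p.Prime] [CharP K p]

theorem kk_map {L : Type*} [Field L] (φ : K →+* L) [CharP L p] (c : (ZMod p)ˣ) : φ (kk K c) = kk L c := by
  unfold kk
  exact congrFun (congrArg DFunLike.coe (Subsingleton.elim (φ.comp (ZMod.castHom (dvd_refl p) K))
    (ZMod.castHom (dvd_refl p) L))) _

theorem kk_frob {q n : ℕ} (hn : q = p ^ n) (c : (ZMod p)ˣ) : kk K c ^ q = kk K c := by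
  have : kk K c ^ q = kk K (c ^ q) := kk_pow c q
  rw [this]
  congr 1
  apply Units.ext
  rw [Units.val_pow_eq_pow_val, hn]
  exact ZMod.pow_card_pow (n := n) _

end General

section E6

variable {K : Type} [Field K] [Fintype K] {p q : ℕ} [hp : Fact p.Prime] [CharP K p]

theorem haut_TE6 (hq : IsPrimePow q) (hK : Fintype.card K = q ^ 2) (σ : ↥(twistedE6 K q) ≃* ↥(twistedE6 K q))
    (z : ↥(twistedE6 K q)) (hz : Rat p ((z : GL chevE6.Idx K) : Matrix chevE6.Idx chevE6.Idx K)) :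
    ((σ z : GL chevE6.Idx K) : Matrix chevE6.Idx chevE6.Idx K).charpoly =
      ((z : GL chevE6.Idx K) : Matrix chevE6.Idx chevE6.Idx K).charpoly := by
  obtain ⟨n, hn⟩ := exists_exp (p := p) (m := 2) (by norm_num) hK
  obtain ⟨f⟩ := BpExc.RowsUntw.exists_emb p K
  obtain ⟨s, j, h⟩ := H321.Car.exists_form f hn hq hK σ
  have hc : ∀ y : ↥(twistedE6 K q), ((H720.TwFr.em6 q f y : GL chevE6.Idx (AlgebraicClosure (ZMod p))) :
      Matrix chevE6.Idx chevE6.Idx (AlgebraicClosure (ZMod p))) =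
      ((y : GL chevE6.Idx K) : Matrix chevE6.Idx chevE6.Idx K).map f := fun y => rfl
  have h1 : BpExc.FamUntw.phi chevE6 (AlgebraicClosure (ZMod p)) p j (H720.TwFr.em6 q f z) = H720.TwFr.em6 q f z := by
    apply Subtype.ext
    apply Units.ext
    rw [BpExc.FamUntw.phi_coe, hc]
    ext a b
    show (f (((z : GL chevE6.Idx K) : Matrix chevE6.Idx chevE6.Idx K) a b)) ^ p ^ j =
      f (((z : GL chevE6.Idx K) : Matrix chevE6.Idx chevE6.Idx K) a b)
    obtain ⟨c, hc⟩ := hz a b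
    rw [hc, ← map_pow, ← map_pow, ZMod.pow_card_pow]
  refine charpoly_of_map f ?_
  rw [← hc, ← hc, h z, h1]
  exact charpoly_units (s : GL chevE6.Idx (AlgebraicClosure (ZMod p))) _

theorem neg46 : chevE6.neg 46 = 25 := by decide +kernel
theorem neg39 : chevE6.neg 39 = 32 := by decide +kernel

theorem hG_mem_TE6 {n : ℕ} (hn : q = p ^ n) {r r' : ℕ} (hr : r ∈ [46, 25, 39, 32]) (hr' : r' ∈ [46, 25, 39, 32])
    (hrr : chevE6.neg r = r') (hE : InList chevE6) (c : (ZMod p)ˣ) : hG hE r (kk K c) ∈ twistedE6 K q := by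
  have hodd : ∀ t : K, t ^ q = t → (-t) ^ q = -t := by
    intro t ht
    have h1 : ∀ x : K, x ^ q = (iterateFrobenius K p n) x := fun x => by rw [iterateFrobenius_def, hn]
    rw [h1, map_neg, ← h1, ht]
  have hN : ∀ t : K, t ^ q = t → nG hE r t ∈ twistedE6 K q := by
    intro t ht
    rw [nG_def, hrr]
    exact mul_mem (TwE6Basic.single_mem ht hr) (mul_mem (TwE6Basic.single_mem
      (hodd _ (by rw [inv_pow, ht])) hr') (TwE6Basic.single_mem ht hr))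
  rw [hG_def]
  exact mul_mem (hN _ (kk_frob hn c)) (hN _ (hodd 1 (one_pow q)))

theorem nor_TE6 (hq : IsPrimePow q) (hK : Fintype.card K = q ^ 2) (t : ↥(twistedE6 K q))
    (ht : (t : GL chevE6.Idx K) ∈ chevE6.diagonalSubgroup K) :
    ∃ Q : Sylow p ↥(twistedE6 K q), ∀ u ∈ (Q : Subgroup ↥(twistedE6 K q)),
      t * u * t⁻¹ ∈ (Q : Subgroup ↥(twistedE6 K q)) := by
  obtain ⟨φ, hφ, hqq⟩ := TwE6Basic.exists_frob hq hK
  let cs := CoxeterMatrix.F₄.toCoxeterSystem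
  have hp4 : Nodes.RGDChev.IsType chevF4 4 CoxeterMatrix.F₄ := by
    simp [Nodes.RGDChev.IsType, Nodes.RGDChev.typeList]
  have hW : Finite CoxeterMatrix.F₄.Group := Nodes.RGDChev.finite_W hp4 cs
  have R := Nodes.RGDTwE6.rgd cs hφ hqq p
  have hG1 : RGD.Sup (Nodes.RGDTwE6.X φ q) {x | IsRoot cs Nodes.RGDTwE6.isCartan x} = ⊤ :=
    Nodes.RGDTwE6.G1_eq_top cs hφ hqq
  refine nor_of_rgd R ?_ (Subgroup.mem_subgroupOf.2 (Subgroup.mem_inf.2 ⟨ht, t.2⟩))
  unfold Nodes.Bruhat.GG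
  rw [hG1, sup_top_eq]

theorem tcls_TE6 (h11 : 11 ≤ p) (hq : IsPrimePow q) (hK : Fintype.card K = q ^ 2) :
    ∃ m, 4 * (p - 1) < m ^ 2 ∧ H712.XZ.TCls p m ↥(twistedE6 K q) := by
  obtain ⟨n, hn⟩ := exists_exp (p := p) (m := 2) (by norm_num) hK
  have hE : InList chevE6 := by simp [InList]
  have hr : 46 < chevE6.nroots := by decide +kernel
  have hs : 39 < chevE6.nroots := by decide +kernel
  have mr : ∀ c : (ZMod p)ˣ, hG hE 46 (kk K c) ∈ twistedE6 K q := fun c =>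
    hG_mem_TE6 hn (by simp) (by simp) neg46 hE c
  have ms : ∀ c : (ZMod p)ˣ, hG hE 39 (kk K c) ∈ twistedE6 K q := fun c =>
    hG_mem_TE6 hn (by simp) (by simp) neg39 hE c
  refine tcls_gen h11 (twistedE6 K q) _ _ chk_E6 (fun c => ?_) (fun c => ?_) (nor_TE6 hq hK) (haut_TE6 hq hK)
  · exact ⟨⟨hG hE 46 (kk K c), mr c⟩, hG_mem_diagonal _ hr (kk_ne_zero c), coe_hG_dm hE hr (kk_ne_zero c)⟩
  · refine ⟨⟨hG hE 46 (kk K c) * hG hE 39 (kk K c ^ 3), mul_mem (mr c) ?_⟩, mul_mem (hG_mem_diagonal _ hr (kk_ne_zero c))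
        (hG_mem_diagonal _ hs (pow_ne_zero 3 (kk_ne_zero c))), ?_⟩
    · rw [kk_pow]
      exact ms _
    show ((hG hE 46 (kk K c) * hG hE 39 (kk K c ^ 3) : GL chevE6.Idx K) : Matrix chevE6.Idx chevE6.Idx K) = _
    rw [Units.val_mul, coe_hG_dm hE hr (kk_ne_zero c), coe_hG_dm hE hs (pow_ne_zero 3 (kk_ne_zero c)),
      dm_pow, dm_mul _ _ (kk_ne_zero c)]
    rfl

end E6

section D4

variable {K : Type} [Field K] [Fintype K] {p q : ℕ} [hp : Fact p.Prime] [CharP K p]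

theorem haut_TD4 (hq : IsPrimePow q) (hK : Fintype.card K = q ^ 3) (σ : ↥(twistedD4 K q) ≃* ↥(twistedD4 K q))
    (z : ↥(twistedD4 K q)) (hz : Rat p ((z : GL chevD4.Idx K) : Matrix chevD4.Idx chevD4.Idx K)) :
    ((σ z : GL chevD4.Idx K) : Matrix chevD4.Idx chevD4.Idx K).charpoly =
      ((z : GL chevD4.Idx K) : Matrix chevD4.Idx chevD4.Idx K).charpoly := by
  obtain ⟨n, hn⟩ := exists_exp (p := p) (m := 3) (by norm_num) hK
  obtain ⟨f⟩ := BpExc.RowsUntw.exists_emb p K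
  obtain ⟨φ, hφ⟩ := D4Fixed.exists_frob hq hK
  have hroot : ∀ a : K, ∃ b : AlgebraicClosure (ZMod p), b ^ 2 = f a := fun a =>
    IsAlgClosed.exists_pow_nat_eq (f a) two_pos
  have hΦf : ∀ a, BpExc.FamField.frb (AlgebraicClosure (ZMod p)) p n (f a) = f (φ a) := fun a => by
    rw [BpExc.FamField.frb_apply, hφ, map_pow, hn]
  obtain ⟨a, τ, y, -, -, h⟩ := H28.FamFour.exists_lift hφ hK CoxeterMatrix.G₂.toCoxeterSystem p f hq.one_lt hroot
    hΦf σ
  have hc : ∀ y : ↥(twistedD4 K q), ((H28.FamFour.em q f y : GL chevD4.Idx (AlgebraicClosure (ZMod p))) :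
      Matrix chevD4.Idx chevD4.Idx (AlgebraicClosure (ZMod p))) =
      ((y : GL chevD4.Idx K) : Matrix chevD4.Idx chevD4.Idx K).map f := fun y => rfl
  have h1 : CpAut.RgdTwD4.st q τ z = z := by
    apply Subtype.ext
    apply Units.ext
    exact hz.map_eq τ
  refine charpoly_of_map f ?_
  rw [← hc, ← hc, h z, h1]
  exact charpoly_units (y : GL chevD4.Idx (AlgebraicClosure (ZMod p))) _

theorem nor_TD4 (hq : IsPrimePow q) (hK : Fintype.card K = q ^ 3) (t : ↥(twistedD4 K q))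
    (ht : (t : GL chevD4.Idx K) ∈ chevD4.diagonalSubgroup K) :
    ∃ Q : Sylow p ↥(twistedD4 K q), ∀ u ∈ (Q : Subgroup ↥(twistedD4 K q)),
      t * u * t⁻¹ ∈ (Q : Subgroup ↥(twistedD4 K q)) := by
  obtain ⟨φ, hφ⟩ := D4Fixed.exists_frob hq hK
  let cs := CoxeterMatrix.G₂.toCoxeterSystem
  have hp4 : Nodes.RGDChev.IsType chevG2 2 CoxeterMatrix.G₂ := by
    simp [Nodes.RGDChev.IsType, Nodes.RGDChev.typeList]
  have hW : Finite CoxeterMatrix.G₂.Group := Nodes.RGDChev.finite_W hp4 cs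
  have R := Nodes.RGDTwD4.rgd cs hK hφ p
  have hG1 : RGD.Sup (Nodes.RGDTwD4.X φ q) {x | IsRoot cs Nodes.RGDTwD4.isCartan x} = ⊤ :=
    Nodes.RGDTwD4.G1_eq_top cs hK hφ
  refine nor_of_rgd R ?_ (Subgroup.mem_subgroupOf.2 (Subgroup.mem_inf.2 ⟨ht, t.2⟩))
  unfold Nodes.Bruhat.GG
  rw [hG1, sup_top_eq]

theorem wU_diag {r : ℕ} (hr : r < 24) (c : K) (hc : c ≠ 0) :
    ((D4Cols.wU (chevD4.hWord r c) : GL chevD4.Idx K) : Matrix chevD4.Idx chevD4.Idx K) = dm chevD4 (expo chevD4 r) c := by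
  rw [D4H1.coe_wU_hWord]
  exact hMat_eq_diagonal (by simp) hr hc

theorem wU_mem {r : ℕ} (hr : r < 24) (c : K) (hc : c ≠ 0) :
    (D4Cols.wU (chevD4.hWord r c) : GL chevD4.Idx K) ∈ chevD4.diagonalSubgroup K := by
  have hD : InList chevD4 := by simp [InList]
  rw [(eq_hG_iff hD (D4Cols.wU (chevD4.hWord r c)) r c).2 (D4H1.coe_wU_hWord r c)]
  exact hG_mem_diagonal hD hr hc

theorem tcls_TD4 (h11 : 11 ≤ p) (hq : IsPrimePow q) (hK : Fintype.card K = q ^ 3) :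
    ∃ m, 4 * (p - 1) < m ^ 2 ∧ H712.XZ.TCls p m ↥(twistedD4 K q) := by
  obtain ⟨n, hn⟩ := exists_exp (p := p) (m := 3) (by norm_num) hK
  obtain ⟨φ, hφ⟩ := D4Fixed.exists_frob hq hK
  have hk : ∀ c : (ZMod p)ˣ, φ (kk K c) = kk K c := fun c => kk_map φ c
  have m1 : ∀ c : (ZMod p)ˣ, D4Cols.wU (chevD4.hWord 14 (kk K c)) ∈ twistedD4 K q := fun c =>
    D4H1.h14_mem hφ (hk c)
  have m2 : ∀ c : (ZMod p)ˣ, D4Cols.wU (chevD4.hWord 18 (kk K c)) * D4Cols.wU (chevD4.hWord 13 (kk K c)) *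
      D4Cols.wU (chevD4.hWord 12 (kk K c)) ∈ twistedD4 K q := fun c => by
    have h1 := D4H1.h_outer_mem hφ (kk K c)
    rwa [hk, hk] at h1
  refine tcls_gen h11 (twistedD4 K q) _ _ chk_D4 (fun c => ?_) (fun c => ?_) (nor_TD4 hq hK) (haut_TD4 hq hK)
  · exact ⟨⟨_, m1 c⟩, wU_mem (by norm_num) _ (kk_ne_zero c), wU_diag (by norm_num) _ (kk_ne_zero c)⟩
  · have hc3 := kk_ne_zero (K := K) (c ^ 3)
    refine ⟨⟨_, mul_mem (m1 c) (m2 (c ^ 3))⟩, mul_mem (wU_mem (by norm_num) _ (kk_ne_zero c))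
      (mul_mem (mul_mem (wU_mem (by norm_num) _ hc3) (wU_mem (by norm_num) _ hc3))
        (wU_mem (by norm_num) _ hc3)), ?_⟩
    show ((D4Cols.wU (chevD4.hWord 14 (kk K c)) * (D4Cols.wU (chevD4.hWord 18 (kk K (c ^ 3))) *
      D4Cols.wU (chevD4.hWord 13 (kk K (c ^ 3))) * D4Cols.wU (chevD4.hWord 12 (kk K (c ^ 3)))) :
        GL chevD4.Idx K) : Matrix chevD4.Idx chevD4.Idx K) = _
    rw [Units.val_mul, Units.val_mul, Units.val_mul, wU_diag (by norm_num) _ (kk_ne_zero c),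
      wU_diag (by norm_num) _ hc3, wU_diag (by norm_num) _ hc3, wU_diag (by norm_num) _ hc3,
      dm_mul _ _ hc3, dm_mul _ _ hc3, ← kk_pow, dm_pow, dm_mul _ _ (kk_ne_zero c)]
    rfl

end D4

/-- **`²E₆(q)` and `³D₄(q)` in their own characteristic.** -/
theorem tcls_tw {p : ℕ} [Fact p.Prime] (h11 : 11 ≤ p) {S : Type*} [Group S] (h : IsTwistedE6D4Char p S) :
    ∃ m, 4 * (p - 1) < m ^ 2 ∧ H712.XZ.TCls p m S := by
  obtain ⟨K, _, _, _, q, hq, h | h⟩ := h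
  · obtain ⟨hK, ⟨e⟩⟩ := h
    have : Finite ↥(twistedE6 K q) := Finite.of_injective _ (Subgroup.subtype_injective _)
    have : Finite S := Finite.of_equiv _ e.symm.toEquiv
    exact TCls_congr e.symm (tcls_TE6 h11 hq hK)
  · obtain ⟨hK, ⟨e⟩⟩ := h
    have : Finite ↥(twistedD4 K q) := Finite.of_injective _ (Subgroup.subtype_injective _)
    have : Finite S := Finite.of_equiv _ e.symm.toEquiv
    exact TCls_congr e.symm (tcls_TD4 h11 hq hK)

end Cfsg.Agent.H143.Own
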