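import Cfsg.Agent.H143.Own.Tab
import Cfsg.Agent.H143.ChevDefZero
import Cfsg.Agent.H470.EPO.BTAny
import Cfsg.Agent.H296.ESixGF
import Cfsg.Agent.H69.OutGF
import Cfsg.Agent.S2156
import Cfsg.Agent.H712.XZ.Psl

/-!
# S4791 + S4927, own characteristic: `G₂`, `F₄`, `E₆`, `E₇`, `E₈` (helper143)

* `tcls_exc` : `IsExceptionalChevChar p S`, `p ≥ 11`.
-/

set_option autoImplicit false
set_option linter.unusedSectionVars false

namespace Cfsg.Agent.H143.Own

open CoxeterSystem Cfsg.Agent.ChevalleyStructure.CoxeterGeom Cfsg.Agent.Tits.Roots Cfsg.Agent.Tits.Core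
  Cfsg.Agent.Tits.RootComb Cfsg.Agent.Nodes.Comb Cfsg.Agent.Nodes.Reps Cfsg.Agent.Nodes.BNOf
open Cfsg Cfsg.Lie Cfsg.Lie.ChevalleyDatum Cfsg.Agent.ChevalleyStructure Cfsg.Agent.ChevalleyStructure.Elts
  Cfsg.Agent.ChevalleyStructure.RootVec Cfsg.Agent.ChevalleyStructure.RootVecTab
  Cfsg.Agent.ChevalleyStructure.NPerm Cfsg.Agent.ChevalleyStructure.CoxeterGeomTypes
  Cfsg.Agent.Nodes.RGDChev Cfsg.Agent.ChevalleyStructure.HMatDiagAll

universe u

section Nor

variable {I W Y : Type*} [Fintype I] [DecidableEq I] [Group W] [Group Y] {M : CoxeterMatrix I}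
  {cs : CoxeterSystem M W} {A : I → I → ℤ} {h : IsCartan M A} {p : ℕ} {T : Subgroup Y} {n : I → Y}
  {X : (I → ℤ) → Subgroup Y}

theorem nor_of_rgd (R : RGD cs h p T n X) [Finite W] [Finite Y] [Fact p.Prime]
    (hG : Nodes.Bruhat.GG cs h T X = ⊤) {t : Y} (ht : t ∈ T) :
    ∃ Q : Sylow p Y, ∀ u ∈ (Q : Subgroup Y), t * u * t⁻¹ ∈ (Q : Subgroup Y) := by
  obtain ⟨S, hS⟩ := H470.EPO.exists_sylow_U R hG
  refine ⟨S, fun u hu => ?_⟩
  rw [hS] at hu ⊢
  exact (Subgroup.mem_normalizer_iff.1 (R.T_le_normalizer_U ht) u).1 hu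

end Nor

variable {D : ChevalleyDatum} {K : Type u} [Field K]

theorem nor_untw {l : ℕ} {M : CoxeterMatrix (Fin l)} (hp : IsType D l M) [Finite K] (p : ℕ) [Fact p.Prime]
    [CharP K p] (t : ↥(D.group K)) (ht : (t : GL D.Idx K) ∈ D.diagonalSubgroup K) :
    ∃ Q : Sylow p ↥(D.group K), ∀ u ∈ (Q : Subgroup ↥(D.group K)), t * u * t⁻¹ ∈ (Q : Subgroup ↥(D.group K)) := by
  let cs : CoxeterSystem M M.Group := M.toCoxeterSystem
  have hW : Finite M.Group := finite_W hp cs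
  have R := rgd (K := K) hp cs p
  have hGG : Nodes.Bruhat.GG cs hp.isCartan (H143.ChevDefZero.TT D K) (fun x => (XV D l K x).subgroupOf (D.group K)) = ⊤ := by
    rw [← top_le_iff, ← G1_eq_top hp cs (K := K)]
    refine RGD.Sup_le fun x hx => ?_
    exact Nodes.Bruhat.X_le_GG (T := H143.ChevDefZero.TT D K) (X := fun x => (XV D l K x).subgroupOf (D.group K)) hx
  exact nor_of_rgd R hGG (Subgroup.mem_subgroupOf.2 ht)

/-- the matrices `h_r(c)` -/
theorem coe_hG_dm (hD : InList D) {r : ℕ} (hr : r < D.nroots) {c : K} (hc : c ≠ 0) :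
    ((hG hD r c : GL D.Idx K) : Matrix D.Idx D.Idx K) = dm D (expo D r) c := by
  rw [coe_hG]
  exact hMat_eq_diagonal hD hr hc

theorem dm_mul (e e' : ℕ → ℤ) {c : K} (hc : c ≠ 0) : dm D e c * dm D e' c = dm D (fun u => e u + e' u) c := by
  rw [dm_eq, dm_eq, dm_eq, Matrix.diagonal_mul_diagonal]
  congr 1
  funext v
  rw [← zpow_add₀ hc]
  congr 1
  rcases v with v | v
  · rfl
  · rfl

theorem dm_pow (e : ℕ → ℤ) (c : K) (k : ℕ) : dm D e (c ^ k) = dm D (fun u => k * e u) c := by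
  rw [dm_eq, dm_eq]
  congr 1
  funext v
  rw [← zpow_natCast, ← zpow_mul]
  congr 1
  rcases v with v | v
  · show (k : ℤ) * 0 = 0
    rw [mul_zero]
  · rfl

section Aut

variable {l : ℕ} {M : CoxeterMatrix (Fin l)}

theorem charpoly_units {ι : Type*} [Fintype ι] [DecidableEq ι] (P A : GL ι K) :
    ((P * A * P⁻¹ : GL ι K) : Matrix ι ι K).charpoly = (A : Matrix ι ι K).charpoly := by
  rw [Units.val_mul, Units.val_mul, Matrix.coe_units_inv]
  exact Matrix.charpoly_units_conj P A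

theorem charpoly_diag (hD : InList D) {d : MulAut ↥(D.group K)} (hd : D.IsDiagonalAut d) (z : ↥(D.group K)) :
    ((d z : GL D.Idx K) : Matrix D.Idx D.Idx K).charpoly = ((z : GL D.Idx K) : Matrix D.Idx D.Idx K).charpoly := by
  obtain ⟨χ, hχ, h⟩ := hd
  have h1 : (d z : GL D.Idx K) = H79.CharDiag.hatG D χ * (z : GL D.Idx K) * (H79.CharDiag.hatG D χ)⁻¹ := by
    apply Units.ext
    rw [Units.val_mul, Units.val_mul, H79.CharDiag.coe_hatG, H79.CharDiag.coe_hatG_inv]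
    exact h z
  rw [h1]
  exact charpoly_units _ _

theorem charpoly_conj (x z : ↥(D.group K)) :
    ((x * z * x⁻¹ : ↥(D.group K)) : GL D.Idx K).val.charpoly =
      ((z : GL D.Idx K) : Matrix D.Idx D.Idx K).charpoly := by
  exact charpoly_units (x : GL D.Idx K) (z : GL D.Idx K)

/-- automorphisms and characteristic polynomials -/
theorem charpoly_aut (hp : IsType D l M) [Finite K] {p : ℕ} [Fact p.Prime] [CharP K p]
    (hgr : ∀ g : MulAut ↥(D.group K), D.IsGraphAut g → ∀ z : ↥(D.group K),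
      ((g z : GL D.Idx K) : Matrix D.Idx D.Idx K).charpoly = ((z : GL D.Idx K) : Matrix D.Idx D.Idx K).charpoly)
    (σ : ↥(D.group K) ≃* ↥(D.group K)) (z : ↥(D.group K)) (hz : Rat p ((z : GL D.Idx K) : Matrix D.Idx D.Idx K)) :
    ((σ z : GL D.Idx K) : Matrix D.Idx D.Idx K).charpoly = ((z : GL D.Idx K) : Matrix D.Idx D.Idx K).charpoly := by
  obtain ⟨x, d, g, f, hd, hg, hf, h⟩ := S2156.result D hp.inList σ
  obtain ⟨τ, hτ⟩ := H296.ESixGF.eq_fld (g := f) hp hf
  have h1 : f z = z := by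
    rw [hτ]
    apply Subtype.ext
    apply Units.ext
    rw [CpAut.RgdUntw.fld_coe]
    exact hz.map_eq τ
  rw [h z, charpoly_conj, h1]
  exact (charpoly_diag hp.inList (d := d) hd _).trans (hgr g hg z)

end Aut

/-! ### graph automorphisms -/

theorem graph_one {g : MulAut ↥(D.group K)} (h : g = 1) (z : ↥(D.group K)) :
    ((g z : GL D.Idx K) : Matrix D.Idx D.Idx K).charpoly = ((z : GL D.Idx K) : Matrix D.Idx D.Idx K).charpoly := by
  rw [h]
  rfl

theorem eq_one_of_symm (hD : InList D) (h : ∀ π : Equiv.Perm (Fin D.rank), D.IsDiagramSymmetry π → π = 1)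
    {g : MulAut ↥(D.group K)} (hg : D.IsGraphAut g) : g = 1 := by
  obtain ⟨π, hπs, hπ⟩ := H79.OutChev.isGraphAut_isGr hD hg
  have h1 := h π hπs
  subst h1
  exact H79.OutChev.isGr_one hπ

theorem graph_E6 {g : MulAut ↥(chevE6.group K)} (hg : chevE6.IsGraphAut g) (z : ↥(chevE6.group K)) :
    ((g z : GL chevE6.Idx K) : Matrix chevE6.Idx chevE6.Idx K).charpoly =
      ((z : GL chevE6.Idx K) : Matrix chevE6.Idx chevE6.Idx K).charpoly := by
  by_cases h1 : g = 1
  · exact graph_one h1 z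
  · have h2 : (g z : GL chevE6.Idx K) = (GraphSymm.symmE6.P K) * (z : GL chevE6.Idx K) * (GraphSymm.symmE6.P K)⁻¹ := by
      rw [H296.ESixGF.eq_gr hg h1]
      exact BpExc.FamTw.Gr.coe_gr _ _ _
    rw [h2]
    exact charpoly_units _ _

/-- a graph automorphism realises its permutation -/
theorem realised_of_graph (hD : InList D) [Finite K] {p : ℕ} [Fact p.Prime] [CharP K p] {g : MulAut ↥(D.group K)}
    (hg : D.IsGraphAut g) : ∃ π ∈ H70.OutCount.realised hD K,
      H79.OutChev.IsGr hD π (fun i => D.graphExp (ringChar K) i (π i)) g := by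
  obtain ⟨π, hπs, hπ⟩ := H79.OutChev.isGraphAut_isGr hD hg
  have hs : ∀ i : Fin D.rank, Function.Surjective fun t : K => t ^ D.graphExp (ringChar K) i (π i) := by
    intro i
    unfold ChevalleyDatum.graphExp
    split_ifs
    · rw [ringChar.eq K p]
      exact H69.OutGF.hperf p
    · intro t
      exact ⟨t, pow_one t⟩
  exact ⟨π, ⟨g, ⟨fun i => H69.OutGF.smul_XX hD (φ := g) (hs i) fun t => (hπ i t).1,
    fun i => H69.OutGF.smul_XX hD (φ := g) (hs i) fun t => (hπ i t).2⟩⟩, hπ⟩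

theorem graph_G2 [Finite K] {p : ℕ} [Fact p.Prime] [CharP K p] (h11 : 11 ≤ p) {g : MulAut ↥(chevG2.group K)}
    (hg : chevG2.IsGraphAut g) : g = 1 := by
  obtain ⟨π, hr, hπ⟩ := realised_of_graph H69.OutGF.hG2 (p := p) hg
  have h3 : ((3 : ℕ) : K) ≠ 0 := fun h => by
    have := (CharP.cast_eq_zero_iff K p 3).1 h
    have := Nat.le_of_dvd (by norm_num) this
    omega
  have h4 : 3 ≤ Nat.card K := by
    have h5 : Function.Injective (ZMod.castHom (dvd_refl p) K) := (ZMod.castHom (dvd_refl p) K).injective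
    have h6 := Nat.card_le_card_of_injective _ h5
    rw [Nat.card_zmod] at h6
    omega
  rcases H69.OutGF.perm2 π with h5 | h5
  · have h6 : π = 1 := h5
    subst h6
    exact H79.OutChev.isGr_one hπ
  · have h6 : π = H69.OutGF.flip2 := h5
    rw [h6] at hr
    exact absurd hr (H69.OutGF.flip2_not_mem (by exact_mod_cast h3) h4)

theorem graph_F4 [Finite K] {p : ℕ} [Fact p.Prime] [CharP K p] (h11 : 11 ≤ p) {g : MulAut ↥(chevF4.group K)}
    (hg : chevF4.IsGraphAut g) : g = 1 := by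
  obtain ⟨π, hr, hπ⟩ := realised_of_graph H69.OutGF.hF4 (p := p) hg
  have h3 : ((2 : ℕ) : K) ≠ 0 := fun h => by
    have := (CharP.cast_eq_zero_iff K p 2).1 h
    have := Nat.le_of_dvd (by norm_num) this
    omega
  rcases H69.OutGF.realised_F4 hr with h6 | h6
  · subst h6
    exact H79.OutChev.isGr_one hπ
  · rw [h6] at hr
    exact absurd hr (H69.OutGF.flip4_not_mem (by exact_mod_cast h3))

section Main

variable {l : ℕ} {M : CoxeterMatrix (Fin l)}

theorem tcls_untw (hp : IsType D l M) [Finite K] {p : ℕ} [Fact p.Prime] [CharP K p] (h11 : 11 ≤ p)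
    (hgr : ∀ g : MulAut ↥(D.group K), D.IsGraphAut g → ∀ z : ↥(D.group K),
      ((g z : GL D.Idx K) : Matrix D.Idx D.Idx K).charpoly = ((z : GL D.Idx K) : Matrix D.Idx D.Idx K).charpoly)
    {r s : ℕ} (hr : r < D.nroots) (hs : s < D.nroots)
    (hchk : chk D (expo D r) (fun u => expo D r u + 3 * expo D s u) = true) :
    ∃ m, 4 * (p - 1) < m ^ 2 ∧ H712.XZ.TCls p m ↥(D.group K) := by
  refine tcls_gen h11 (D.group K) _ _ hchk (fun c => ?_) (fun c => ?_) (nor_untw hp p) (charpoly_aut hp hgr)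
  · exact ⟨⟨hG hp.inList r (kk K c), hG_mem_group _ _ _⟩, hG_mem_diagonal _ hr (kk_ne_zero c),
      coe_hG_dm hp.inList hr (kk_ne_zero c)⟩
  · refine ⟨⟨hG hp.inList r (kk K c) * hG hp.inList s (kk K c ^ 3), mul_mem (hG_mem_group _ _ _)
      (hG_mem_group _ _ _)⟩, mul_mem (hG_mem_diagonal _ hr (kk_ne_zero c))
        (hG_mem_diagonal _ hs (pow_ne_zero 3 (kk_ne_zero c))), ?_⟩
    show ((hG hp.inList r (kk K c) * hG hp.inList s (kk K c ^ 3) : GL D.Idx K) : Matrix D.Idx D.Idx K) = _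
    rw [Units.val_mul, coe_hG_dm hp.inList hr (kk_ne_zero c), coe_hG_dm hp.inList hs (pow_ne_zero 3 (kk_ne_zero c)),
      dm_pow, dm_mul _ _ (kk_ne_zero c)]
    rfl

end Main

theorem tcls_G2 [Finite K] {p : ℕ} [Fact p.Prime] [CharP K p] (h11 : 11 ≤ p) :
    ∃ m, 4 * (p - 1) < m ^ 2 ∧ H712.XZ.TCls p m ↥(chevG2.group K) :=
  tcls_untw (l := 2) (M := CoxeterMatrix.G₂) (by simp [IsType, typeList]) h11
    (fun _ hg => graph_one (graph_G2 (p := p) h11 hg)) (by decide +kernel) (by decide +kernel) chk_G2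

theorem tcls_F4 [Finite K] {p : ℕ} [Fact p.Prime] [CharP K p] (h11 : 11 ≤ p) :
    ∃ m, 4 * (p - 1) < m ^ 2 ∧ H712.XZ.TCls p m ↥(chevF4.group K) :=
  tcls_untw (l := 4) (M := CoxeterMatrix.F₄) (by simp [IsType, typeList]) h11
    (fun _ hg => graph_one (graph_F4 (p := p) h11 hg)) (by decide +kernel) (by decide +kernel) chk_F4

theorem tcls_E6 [Finite K] {p : ℕ} [Fact p.Prime] [CharP K p] (h11 : 11 ≤ p) :
    ∃ m, 4 * (p - 1) < m ^ 2 ∧ H712.XZ.TCls p m ↥(chevE6.group K) :=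
  tcls_untw (l := 6) (M := CoxeterMatrix.E₆) (by simp [IsType, typeList]) h11
    (fun _ hg => graph_E6 hg) (by decide +kernel) (by decide +kernel) chk_E6

theorem tcls_E7 [Finite K] {p : ℕ} [Fact p.Prime] [CharP K p] (h11 : 11 ≤ p) :
    ∃ m, 4 * (p - 1) < m ^ 2 ∧ H712.XZ.TCls p m ↥(chevE7.group K) :=
  tcls_untw (l := 7) (M := CoxeterMatrix.E₇) (by simp [IsType, typeList]) h11
    (fun _ hg => graph_one (eq_one_of_symm (by simp [InList]) (fun _ => H79.DiagSymm.eq_one_E7) hg))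
    (by decide +kernel) (by decide +kernel) chk_E7

theorem tcls_E8 [Finite K] {p : ℕ} [Fact p.Prime] [CharP K p] (h11 : 11 ≤ p) :
    ∃ m, 4 * (p - 1) < m ^ 2 ∧ H712.XZ.TCls p m ↥(chevE8.group K) :=
  tcls_untw (l := 8) (M := CoxeterMatrix.E₈) (by simp [IsType, typeList]) h11
    (fun _ hg => graph_one (eq_one_of_symm (by simp [InList]) (fun _ => H79.DiagSymm.eq_one_E8) hg))
    (by decide +kernel) (by decide +kernel) chk_E8

theorem TCls_congr {p : ℕ} [Fact p.Prime] {S T : Type*} [Group S] [Group T] [Finite S] [Finite T] (e : S ≃* T)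
    (h : ∃ m, 4 * (p - 1) < m ^ 2 ∧ H712.XZ.TCls p m S) : ∃ m, 4 * (p - 1) < m ^ 2 ∧ H712.XZ.TCls p m T := by
  obtain ⟨m, h1, h2⟩ := h
  exact ⟨m, h1, h2.congr e⟩

/-- **The exceptional Chevalley groups in their own characteristic.** -/
theorem tcls_exc {p : ℕ} [Fact p.Prime] (h11 : 11 ≤ p) {S : Type u} [Group S] (h : IsExceptionalChevChar p S) :
    ∃ m, 4 * (p - 1) < m ^ 2 ∧ H712.XZ.TCls p m S := by
  obtain ⟨F, _, _, _, h⟩ := h
  have key : ∀ {D : ChevalleyDatum}, Nonempty (S ≃* ↥(D.group F)) →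
      (∃ m, 4 * (p - 1) < m ^ 2 ∧ H712.XZ.TCls p m ↥(D.group F)) →
      ∃ m, 4 * (p - 1) < m ^ 2 ∧ H712.XZ.TCls p m S := by
    intro D ⟨e⟩ h1
    have : Finite ↥(D.group F) := inferInstance
    have : Finite S := Finite.of_equiv _ e.symm.toEquiv
    exact TCls_congr e.symm h1
  rcases h with ⟨-, h⟩ | h | h | h | h
  · exact key h (tcls_G2 h11)
  · exact key h (tcls_F4 h11)
  · exact key h (tcls_E6 h11)
  · exact key h (tcls_E7 h11)
  · exact key h (tcls_E8 h11)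

end Cfsg.Agent.H143.Own
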